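/-
Involutions of the unitary group in characteristic two are permutations of an orthonormal basis.
Main result: `exists_swap_basis`.
-/
import Cfsg.Agent.EqLemmas
import Cfsg.Agent.Lib.Unitary.Form

set_option autoImplicit false

namespace Cfsg.Agent.InvolSU

open Matrix
open Cfsg.Agent.Unitary

variable {F : Type*} [Field F] [Fintype F] {n q : ℕ}

local notation "hf" => Cfsg.hermForm n F q

/-- The exchange of the first two blocks of length `k`. -/
def blockSwap (n k : ℕ) (i : Fin n) : Fin n :=
  if h : k + k ≤ n then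
    if h₁ : (i : ℕ) < k then ⟨i + k, by omega⟩ else if (i : ℕ) < k + k then ⟨i - k, by omega⟩ else i
  else i

/-- An involutory isometry is a permutation of a suitable orthonormal basis. -/
theorem exists_swap_basis (hF : Fintype.card F = q ^ 2) [CharP F 2] {A : Matrix (Fin n) (Fin n) F} (hA2 : A * A = 1)
    (hA : ∀ u v, hf (A *ᵥ u) (A *ᵥ v) = hf u v) :
    ∃ c : Fin n → Fin n → F, Orthonormal hf c ∧ 2 * (A - 1).rank ≤ n ∧
      ∀ i, A *ᵥ c i = c (blockSwap n (A - 1).rank i) := by
  classical
  have H := hermForm_isHerm hF n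
  have htwo : ∀ x : F, x + x = 0 := CharTwo.add_self_eq_zero
  have htwov : ∀ x : Fin n → F, x + x = 0 := fun x => funext fun i => htwo (x i)
  set N : (Fin n → F) →ₗ[F] (Fin n → F) := Matrix.toLin' (A - 1) with hN
  have hNapp : ∀ u, N u = A *ᵥ u - u := fun u => by
    rw [hN, Matrix.toLin'_apply, Matrix.sub_mulVec, Matrix.one_mulVec]
  have hAu : ∀ u, A *ᵥ u = u + N u := fun u => by rw [hNapp]; abel
  have hAA : ∀ u, A *ᵥ (A *ᵥ u) = u := fun u => by rw [Matrix.mulVec_mulVec, hA2, Matrix.one_mulVec]
  have hNN : ∀ u, N (N u) = 0 := fun u => by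
    rw [hNapp, hNapp, Matrix.mulVec_sub, hAA]
    have h1 := htwov (u - A *ᵥ u)
    simpa [sub_eq_add_neg, add_assoc] using h1
  have hadj : ∀ u v, hf (N u) v = hf u (N v) := fun u v => by
    rw [hNapp, hNapp, H.sub_left, H.sub_right hF, show hf (A *ᵥ u) v = hf u (A *ᵥ v) by
      conv_lhs => rw [← hAA v]
      exact hA u (A *ᵥ v)]
  -- orthonormal vectors for the form of N
  set b : (Fin n → F) → (Fin n → F) → F := fun u v => hf (N u) v with hb
  have Hb : IsHerm q b := by
    refine ⟨fun x y z => by simp only [hb, map_add, H.add_left], fun c x z => by simp only [hb, map_smul, H.smul_left],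
      fun x y => ?_⟩
    simp only [hb]
    rw [hadj y x, H.conj_symm]
  obtain ⟨C, hC⟩ := Submodule.exists_isCompl (LinearMap.ker N)
  have hsplit : ∀ v : Fin n → F, ∃ z ∈ LinearMap.ker N, ∃ y ∈ C, v = z + y := fun v => by
    obtain ⟨z, hz, y, hy, h⟩ := Submodule.mem_sup.mp (hC.sup_eq_top ▸ Submodule.mem_top : v ∈ LinearMap.ker N ⊔ C)
    exact ⟨z, hz, y, hy, h.symm⟩
  have hCk : Module.finrank F C = (A - 1).rank := by
    have h1 := Submodule.finrank_add_eq_of_isCompl hC
    have h2 := LinearMap.finrank_range_add_finrank_ker N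
    have h3 : (A - 1).rank = Module.finrank F (LinearMap.range N) := by rw [hN, Matrix.rank, Matrix.toLin'_apply']
    omega
  have hnd : Nondeg fun x y : C => b x y := by
    intro x hx
    have h0 : N (x : Fin n → F) = 0 := hermForm_nondeg hF n _ fun v => by
      obtain ⟨z, hz, y, hy, rfl⟩ := hsplit v
      rw [H.add_right hF, hadj, LinearMap.mem_ker.mp hz, H.zero_right hF, show hf (N x) y = 0 from hx ⟨y, hy⟩,
        add_zero]
    exact Subtype.ext (Submodule.disjoint_def.mp hC.disjoint _ h0 x.2)
  obtain ⟨e₀, he₀⟩ := exists_orthonormalBasis hF (Hb.comap C.subtype) hnd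
  set k := (A - 1).rank with hk
  have hsp₀ := Orthonormal.eq_sum_of_card (Hb.comap C.subtype) he₀ (by simp)
  let y : Fin k → Fin n → F := fun i => (e₀ (Fin.cast hCk.symm i) : Fin n → F)
  have hy : ∀ i j, b (y i) (y j) = if i = j then 1 else 0 := fun i j => by
    have := he₀.apply (Fin.cast hCk.symm i) (Fin.cast hCk.symm j)
    simpa [y, Fin.ext_iff] using this
  have hyspan : ∀ u ∈ C, ∃ a : Fin k → F, u = ∑ i, a i • y i := fun u hu => by
    refine ⟨fun i => b u (y i), ?_⟩
    have h1 := congrArg (fun v : C => (v : Fin n → F)) (hsp₀ ⟨u, hu⟩)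
    simp only [Submodule.coe_sum, Submodule.coe_smul, Submodule.subtype_apply] at h1
    conv_lhs => rw [h1]
    exact (Fintype.sum_equiv (finCongr hCk) _ _ fun i => by simp [y])
  -- adjust to orthonormal vectors for the form itself
  let D : Fin k → Fin k → F := fun i j => (if i = j then 1 else 0) + hf (y i) (y j)
  have hDsym : ∀ i j, D j i = D i j ^ q := fun i j => by
    simp only [D]
    rw [add_pow_q hF, ← H.conj_symm]
    rcases eq_or_ne i j with rfl | hij
    · simp
    · simp [hij, Ne.symm hij, zero_pow_q hF]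
  choose t ht using fun i => exists_trace_eq hF (c := D i i) (hDsym i i).symm
  let a : Fin k → Fin k → F := fun i j => if i < j then D i j else if j < i then 0 else t i
  have ha : ∀ i j, a i j + a j i ^ q = D i j := fun i j => by
    rcases lt_trichotomy i j with h | rfl | h
    · simp [a, h, not_lt.mpr h.le, zero_pow_q hF]
    · simp [a, ht]
    · simp [a, h, not_lt.mpr h.le, ← hDsym]
  let x : Fin k → Fin n → F := fun i => y i + ∑ l, a i l • N (y l)
  have hNx : ∀ i, N (x i) = N (y i) := fun i => by
    simp only [x, map_add, map_sum, map_smul, hNN, smul_zero, Finset.sum_const_zero, add_zero]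
  have hwy : ∀ i j, hf (N (y i)) (y j) = if i = j then 1 else 0 := hy
  have hyw : ∀ i j, hf (y i) (N (y j)) = if i = j then 1 else 0 := fun i j => by rw [← hadj]; exact hy i j
  have hww : ∀ i j, hf (N (y i)) (N (y j)) = 0 := fun i j => by rw [hadj, hNN, H.zero_right hF]
  have hxx : ∀ i j, hf (x i) (x j) = if i = j then 1 else 0 := fun i j => by
    simp only [x, H.add_left, H.add_right hF, H.sum_left, H.sum_right hF, H.smul_left, H.smul_right, hwy, hyw, hww,
      mul_zero, Finset.sum_const_zero, add_zero, mul_ite, mul_one, Finset.sum_ite_eq, Finset.sum_ite_eq',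
      Finset.mem_univ, if_true]
    have h1 := ha i j
    simp only [D] at h1
    linear_combination h1 + htwo (hf (y i) (y j))
  have hwx : ∀ i j, hf (N (x i)) (x j) = if i = j then 1 else 0 := fun i j => by
    rw [hNx]
    simp only [x, H.add_right hF, H.sum_right hF, H.smul_right, hwy, hww, mul_zero, Finset.sum_const_zero, add_zero]
  have hxw : ∀ i j, hf (x i) (N (x j)) = if i = j then 1 else 0 := fun i j => by rw [← hadj]; exact hwx i j
  have hww' : ∀ i j, hf (N (x i)) (N (x j)) = 0 := fun i j => by rw [hadj, hNN, H.zero_right hF]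
  let f : Fin (k + k) → Fin n → F := Fin.append x fun i => x i + N (x i)
  have hfl : ∀ i, f (Fin.castAdd k i) = x i := fun i => Fin.append_left _ _ _
  have hfr : ∀ i, f (Fin.natAdd k i) = x i + N (x i) := fun i => Fin.append_right _ _ _
  have hfo : Orthonormal hf f := by
    refine ⟨fun i => ?_, fun i j hij => ?_⟩
    · induction i using Fin.addCases with
      | left i => rw [hfl, hxx, if_pos rfl]
      | right i => rw [hfr]; simp [H.add_left, H.add_right hF, hxx, hxw, hwx, hww', htwo]
    · induction i using Fin.addCases with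
      | left i =>
        induction j using Fin.addCases with
        | left j => rw [hfl, hfl, hxx, if_neg fun h => hij (by rw [h])]
        | right j => rw [hfl, hfr]; simp [H.add_right hF, hxx, hxw, htwo]
      | right i =>
        induction j using Fin.addCases with
        | left j => rw [hfr, hfl]; simp [H.add_left, hxx, hwx, htwo]
        | right j =>
          have : i ≠ j := fun h => hij (by rw [h])
          rw [hfr, hfr]; simp [H.add_left, H.add_right hF, hxx, hxw, hwx, hww', this]
  have hle : k + k ≤ n := by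
    simpa using (hfo.linearIndependent H).fintype_card_le_finrank
  obtain ⟨c, hc, hcf⟩ := exists_orthonormal_extend hF H (hermForm_nondeg hF n) hfo hle (by simp)
  refine ⟨c, hc, by omega, fun i => ?_⟩
  rw [hAu]
  rcases lt_or_ge (i : ℕ) k with hi | hi
  · have e1 : c i = x ⟨i, hi⟩ := by
      rw [← show f (Fin.castAdd k ⟨i, hi⟩) = x ⟨i, hi⟩ from Fin.append_left _ _ _, ← hcf]
      exact congrArg c (Fin.ext rfl)
    have e2 : c (blockSwap n k i) = x ⟨i, hi⟩ + N (x ⟨i, hi⟩) := by
      rw [← show f (Fin.natAdd k ⟨i, hi⟩) = x ⟨i, hi⟩ + N (x ⟨i, hi⟩) from Fin.append_right _ _ _, ← hcf]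
      refine congrArg c (Fin.ext ?_)
      simp [blockSwap, hle, hi]
      try omega
    rw [e1, e2]
  rcases lt_or_ge (i : ℕ) (k + k) with hi2 | hi2
  · have hik : (i : ℕ) - k < k := by omega
    have e1 : c i = x ⟨i - k, hik⟩ + N (x ⟨i - k, hik⟩) := by
      rw [← show f (Fin.natAdd k ⟨i - k, hik⟩) = x ⟨i - k, hik⟩ + N (x ⟨i - k, hik⟩) from Fin.append_right _ _ _, ← hcf]
      refine congrArg c (Fin.ext ?_)
      simp
      omega
    have e2 : c (blockSwap n k i) = x ⟨i - k, hik⟩ := by
      rw [← show f (Fin.castAdd k ⟨i - k, hik⟩) = x ⟨i - k, hik⟩ from Fin.append_left _ _ _, ← hcf]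
      refine congrArg c (Fin.ext ?_)
      simp [blockSwap, hle, hi2, show ¬ (i : ℕ) < k by omega]
    rw [e1, e2, map_add N (x ⟨i - k, hik⟩) (N (x ⟨i - k, hik⟩)), hNN, add_zero, add_assoc, htwov, add_zero]
  have e : blockSwap n k i = i := by
    simp [blockSwap, hle, show ¬ (i : ℕ) < k by omega, show ¬ (i : ℕ) < k + k by omega]
  rw [e, add_eq_left]
  refine hermForm_nondeg hF n _ fun v => ?_
  rw [hadj]
  obtain ⟨z, hz, u, hu, rfl⟩ := hsplit v
  obtain ⟨a', rfl⟩ := hyspan u hu
  rw [map_add, LinearMap.mem_ker.mp hz, zero_add, map_sum, H.sum_right hF]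
  refine Finset.sum_eq_zero fun l _ => ?_
  have h1 : hf (c i) (x l) = 0 := by
    rw [← show f (Fin.castAdd k l) = x l from Fin.append_left _ _ _, ← hcf]
    exact hc.2 fun h => absurd (congrArg Fin.val h) (by simp; omega)
  have h2 : hf (c i) (x l + N (x l)) = 0 := by
    rw [← show f (Fin.natAdd k l) = x l + N (x l) from Fin.append_right _ _ _, ← hcf]
    exact hc.2 fun h => absurd (congrArg Fin.val h) (by simp; omega)
  rw [H.add_right hF, h1, zero_add] at h2
  rw [map_smul, H.smul_right, ← hNx, h2, mul_zero]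

end Cfsg.Agent.InvolSU
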